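import Groth.Agent.H8Constr.TwistFrac
import Groth.Agent.TwistLib.TwistInv
import Groth.Agent.ProjLib.GradedGen
import Groth.Agent.Coherent.TensorQcoh
import Groth.Agent.Coherent.Serre.Uniform
import Groth.Agent.Coherent.Serre.AmpleAffine
import Groth.Agent.DCat.TensorAssoc
import Groth.Agent.EulerLib.Twist
import Mathlib.AlgebraicGeometry.ProjectiveSpectrum.Proper

/-!
# Serre's theorems on `Proj` of a Noetherian graded ring, not necessarily generated in degree one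
-/

set_option autoImplicit false
set_option linter.unusedSectionVars false
set_option backward.isDefEq.respectTransparency.types false

universe u

open CategoryTheory CategoryTheory.Limits AlgebraicGeometry TopologicalSpace Opposite
open Groth.Agent.ProjLib Groth.Agent.Coherent Groth.Agent.PicLib Groth.Agent.AmpleLib Groth.Agent.TwistLib

namespace Groth.Agent.ProjAmple14

theorem tensorMap_comp_id {X : Scheme.{u}} {M₁ M₂ M₃ P : X.Modules} (f : M₁ ⟶ M₂) (g : M₂ ⟶ M₃) :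
    tensorMap (f ≫ g) (𝟙 P) = tensorMap f (𝟙 P) ≫ tensorMap g (𝟙 P) :=
  AmpleLib.hom_ext fun U a b => by
    refine (tensorMap_tmul (f ≫ g) (𝟙 P) a b).trans ?_
    refine Eq.symm ((congrArg ((tensorMap g (𝟙 P)).app U) (tensorMap_tmul f (𝟙 P) a b)).trans ?_)
    exact tensorMap_tmul g (𝟙 P) (f.app U a) b

variable {R A : Type u} [CommRing R] [CommRing A] [Algebra R A] {𝒜 : ℕ → Submodule R A} [GradedAlgebra 𝒜]

/-- One positive degree whose forms cover `Proj`. -/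
theorem exists_deg_cover [IsNoetherianRing A] :
    ∃ N : ℕ, 0 < N ∧ ∀ x : ProjectiveSpectrum 𝒜, ∃ f ∈ 𝒜 N, f ∉ x.asHomogeneousIdeal.toIdeal := by
  classical
  obtain ⟨s, hs, hspan⟩ := exists_finset_homogeneous_span_eq_irrelevant 𝒜 (IsNoetherian.noetherian _)
  choose e he hf using hs
  refine ⟨∏ g ∈ s.attach, e g.1 g.2, Finset.prod_pos fun g _ => he g.1 g.2, fun x => ?_⟩
  obtain ⟨g, hg, hgx⟩ := TwistLib.exists_notMem_of_span hspan x
  obtain ⟨c, hc⟩ := Finset.dvd_prod_of_mem (fun g : {g // g ∈ s} => e g.1 g.2) (Finset.mem_attach s ⟨g, hg⟩)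
  refine ⟨g ^ c, ?_, fun h => hgx (x.isPrime.mem_of_pow_mem c h)⟩
  rw [hc, mul_comm]
  simpa [smul_eq_mul] using SetLike.pow_mem_graded c (hf g hg)

variable {N : ℕ}

section Sheaves

variable (hcov : ∀ x : ProjectiveSpectrum 𝒜, ∃ f ∈ 𝒜 N, f ∉ x.asHomogeneousIdeal.toIdeal)

include hcov in
theorem isInvertible_twist_mul (m : ℤ) : PicF.IsInvertible (Twist.twist 𝒜 (m * N)) := by
  refine isInvertible_of_gens fun x => ?_
  obtain ⟨f, hf, hfx⟩ := hcov x
  exact ⟨Proj.basicOpen 𝒜 f, hfx, _, isGen_tau hf m⟩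

include hcov in
theorem nonempty_tensor_twist {a b c : ℤ} (h : a + b = c) {m : ℤ} (hb : b = m * N) :
    Nonempty (CohB1.tensorMod (Twist.twist 𝒜 a) (Twist.twist 𝒜 b) ≅ Twist.twist 𝒜 c) := by
  have := isIso_desc_mulBilin (𝒜 := 𝒜) 𝒜 h hb hcov
  exact ⟨AmpleLib.tensorIso (twistIsoTilde 𝒜 a) (Iso.refl _) ≪≫ asIso (mulBilin (𝒜 := 𝒜) 𝒜 h).desc ≪≫
    (twistIsoTilde 𝒜 c).symm⟩

include hcov in
theorem nonempty_twist_pow :
    ∀ n : ℕ, Nonempty (Twist.twist 𝒜 ((n : ℤ) * N) ≅ CohB1.tensorPow (Twist.twist 𝒜 (N : ℤ)) n)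
  | 0 => by
    rw [show ((0 : ℕ) : ℤ) * N = 0 by simp]
    exact nonempty_twist_zero_iso
  | n + 1 => by
    obtain ⟨e⟩ := nonempty_twist_pow n
    obtain ⟨e'⟩ := nonempty_tensor_twist hcov
      (show (n : ℤ) * N + N = ((n + 1 : ℕ) : ℤ) * N by push_cast; ring) (m := 1) (one_mul _).symm
    exact ⟨e'.symm ≪≫ AmpleLib.tensorIso e (Iso.refl _)⟩

/-- The evaluation of a section at a point. -/
noncomputable def evalAt (n : ℤ) (W : (Proj 𝒜).Opens) (x : W) :
    Γ(Twist.twist 𝒜 n, W) →+ Twist.Loc 𝒜 x.1 :=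
  AddMonoidHom.mk' (fun s => ((show Twist.sectN (𝒜 := 𝒜) n (op W) from s).1 x).1) fun _ _ => rfl

/-- The numerators in degree `r + kN` generate `O(r)` on `D₊(f)`, `f` of degree `N`. -/
theorem exists_genOn_twist [IsNoetherianRing A] (r : ℕ) {f : A} (hf : f ∈ 𝒜 N) (hN : 0 < N) :
    ∃ (I : Type u) (_ : Fintype I) (s : I → Γ(Twist.twist 𝒜 (r : ℤ), Proj.basicOpen 𝒜 f)),
      GenOn (Twist.twist 𝒜 (r : ℤ)) (Proj.basicOpen 𝒜 f) s := by
  classical
  let S : Set A := {a | ∃ k : ℕ, a ∈ 𝒜 (r + k * N)}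
  obtain ⟨T, hTS, hT⟩ := (Submodule.fg_span_iff_fg_span_finset_subset S).1
    (IsNoetherian.noetherian (Submodule.span A S))
  choose k hk using fun t : T => hTS t.2
  have hpow : ∀ m : ℕ, f ^ m ∈ 𝒜 (m * N) := fun m => by
    simpa [smul_eq_mul] using SetLike.pow_mem_graded m hf
  have hfnin : ∀ (m : ℕ) (x : (Proj.basicOpen 𝒜 f : (Proj 𝒜).Opens)), f ^ m ∉ x.1.asHomogeneousIdeal :=
    fun m x h => x.2 (x.1.isPrime.mem_of_pow_mem m h)
  let g : T → Γ(Twist.twist 𝒜 (r : ℤ), Proj.basicOpen 𝒜 f) := fun t =>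
    fracSec (r : ℤ) (Proj.basicOpen 𝒜 f) ⟨t.1, hk t⟩ ⟨f ^ k t, hpow _⟩ (hfnin _) (by push_cast; ring)
  refine ⟨T, inferInstance, g, fun W hW a y hy => ?_⟩
  let a' : Twist.sectN (𝒜 := 𝒜) (r : ℤ) (op W) := a
  obtain ⟨V, hyV, iV, i, j, b, s, nin, hdeg, hv⟩ := a'.2 ⟨y, hy⟩
  rcases hdeg with hdeg | hb0
  swap
  · refine ⟨V, leOfHom iV, hyV, 0, ?_⟩
    simp only [Pi.zero_apply, zero_smul, Finset.sum_const_zero]
    refine sectN_ext (f := (show Twist.sectN (𝒜 := 𝒜) (r : ℤ) (op V) from resM _ (leOfHom iV) a))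
      (g := 0) fun x => (hv x).trans ?_
    rw [hb0, Localization.mk_zero]
    rfl
  have hi : i = j + r := by omega
  have hb' : b.1 * s.1 ^ (N - 1) ∈ 𝒜 (r + j * N) := by
    have h1 := SetLike.mul_mem_graded b.2 (SetLike.pow_mem_graded (N - 1) s.2)
    have e : i + (N - 1) • j = r + j * N := by
      obtain ⟨m, rfl⟩ : ∃ m, N = m + 1 := ⟨N - 1, by omega⟩
      rw [smul_eq_mul, hi]
      simp only [Nat.add_sub_cancel]
      ring
    rwa [e] at h1
  have hmem : b.1 * s.1 ^ (N - 1) ∈ Submodule.span A (T : Set A) :=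
    hT ▸ Submodule.subset_span ⟨j, hb'⟩
  obtain ⟨c, hc⟩ := Submodule.mem_span_finset'.1 hmem
  let c' : T → A := fun t =>
    if k t ≤ j then (DirectSum.decompose 𝒜 (c t) ((r + j * N) - (r + k t * N)) : A) else 0
  have hc' : ∀ t : T, c' t * f ^ k t ∈ 𝒜 (j * N) := fun t => by
    by_cases h : k t ≤ j
    · simp only [c', if_pos h]
      have h1 := SetLike.mul_mem_graded (DirectSum.decompose 𝒜 (c t) ((r + j * N) - (r + k t * N))).2
        (hpow (k t))
      have hle : k t * N ≤ j * N := Nat.mul_le_mul_right N h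
      rwa [show (r + j * N) - (r + k t * N) + k t * N = j * N by omega] at h1
    · simp only [c', if_neg h, zero_mul]
      exact zero_mem _
  have hsum : ∑ t : T, c' t * t.1 = b.1 * s.1 ^ (N - 1) := by
    have h1 := congrArg (fun z => ((DirectSum.decompose 𝒜 z (r + j * N)) : A)) hc
    simp only [smul_eq_mul] at h1
    rw [DirectSum.decompose_of_mem_same 𝒜 hb', DirectSum.decompose_sum, DFinsupp.finset_sum_apply,
      AddSubmonoidClass.coe_finsetSum] at h1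
    refine Eq.trans (Finset.sum_congr rfl fun t _ => ?_) h1
    by_cases h : k t ≤ j
    · have hle : r + k t * N ≤ r + j * N := Nat.add_le_add_left (Nat.mul_le_mul_right N h) r
      rw [DirectSum.coe_decompose_mul_of_right_mem_of_le 𝒜 (hk t) hle]
      simp only [c', if_pos h]
    · have hlt : j * N < k t * N := Nat.mul_lt_mul_of_pos_right (by omega) hN
      rw [DirectSum.coe_decompose_mul_of_right_mem_of_not_le 𝒜 (hk t) (by omega)]
      simp only [c', if_neg h, zero_mul]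
  have hsN : s.1 ^ N ∈ 𝒜 (j * N) := by
    simpa [smul_eq_mul, mul_comm] using SetLike.pow_mem_graded N s.2
  have hsnin : ∀ x : V, s.1 ^ N ∉ x.1.asHomogeneousIdeal := fun x h =>
    nin x (x.1.isPrime.mem_of_pow_mem N h)
  let co : T → Twist.O (𝒜 := 𝒜) (op V) := fun t =>
    ⟨fun x => HomogeneousLocalization.mk ⟨j * N, ⟨c' t * f ^ k t, hc' t⟩, ⟨s.1 ^ N, hsN⟩, hsnin x⟩,
      fun x => ⟨V, x.2, 𝟙 _, j * N, ⟨c' t * f ^ k t, hc' t⟩, ⟨s.1 ^ N, hsN⟩, hsnin, fun _ => rfl⟩⟩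
  let V' : (Proj 𝒜).Opens := V
  let co' : T → Γ(Proj 𝒜, V') := co
  refine ⟨V', leOfHom iV, hyV, co', ?_⟩
  refine sectN_ext (f := (show Twist.sectN (𝒜 := 𝒜) (r : ℤ) (op V) from resM _ (leOfHom iV) a))
    (g := (show Twist.sectN (𝒜 := 𝒜) (r : ℤ) (op V) from ∑ t, co' t • resM (Twist.twist 𝒜 (r : ℤ)) (((leOfHom iV : V' ≤ W)).trans hW) (g t))) fun x => ?_
  refine (hv x).trans (Eq.trans ?_ (map_sum (evalAt (r : ℤ) V x) _ _).symm)
  refine Eq.trans ?_ (Finset.sum_congr rfl fun t _ => Eq.symm ?_)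
    (b := ∑ t : T, Localization.mk (c' t * t.1) ⟨s.1 ^ N, hsnin x⟩)
  · rw [← Localization.mk_sum, hsum]
    refine Localization.mk_eq_mk_iff.2 (Localization.r_iff_exists.2 ⟨1, ?_⟩)
    simp only [Submonoid.coe_one, one_mul]
    obtain ⟨m, rfl⟩ : ∃ m, N = m + 1 := ⟨N - 1, by omega⟩
    simp only [Nat.add_sub_cancel]
    ring
  · refine (oSmul_val (co t) _ x).trans ?_
    refine (congrArg₂ (· * ·) (HomogeneousLocalization.val_mk _)
      (fracSec_val (r : ℤ) (Proj.basicOpen 𝒜 f) ⟨t.1, hk t⟩ ⟨f ^ k t, hpow _⟩ (hfnin _)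
        (by push_cast; ring) ⟨x.1, hW ((leOfHom iV) x.2)⟩)).trans ?_
    rw [Localization.mk_mul]
    refine Localization.mk_eq_mk_iff.2 (Localization.r_iff_exists.2 ⟨1, ?_⟩)
    simp only [Submonoid.coe_mul, Submonoid.coe_one]
    ring

include hcov in
theorem isCoh_twist_nat [IsNoetherianRing A] (hN : 0 < N) (r : ℕ) : Coh.IsCoh (Twist.twist 𝒜 (r : ℤ)) := by
  refine ⟨isQCoh_twist 𝒜 _, isFT_of_locallyFinGen fun x => ?_⟩
  obtain ⟨f, hf, hfx⟩ := hcov x
  obtain ⟨I, hI, s, hs⟩ := exists_genOn_twist r hf hN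
  exact ⟨_, I, hI, s, hfx, hs⟩

include hcov in
theorem isAmple_twist_deg (hN : 0 < N) (hc : CompactSpace (Proj 𝒜)) :
    CohB1.IsAmple (Twist.twist 𝒜 (N : ℤ)) := by
  have hgl : ∀ (f : A) (hf : f ∈ 𝒜 N),
      IsGen (Twist.twist 𝒜 (N : ℤ)) (Proj.basicOpen 𝒜 f)
        (resM (Twist.twist 𝒜 (N : ℤ)) le_top
          (show Γ(Twist.twist 𝒜 (N : ℤ), ⊤) from Twist.globalOf 𝒜 ⟨f, hf⟩)) := fun f hf V hV => by
    have key : ∀ (n : ℤ), n = 1 * (N : ℤ) → ∀ (b : Twist.sectN (𝒜 := 𝒜) n (op V)),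
        (∀ x : V, (b.1 x).1 = Localization.mk f 1) →
        Function.Bijective fun g : Twist.O (𝒜 := 𝒜) (op V) => oSmul g b := by
      rintro n rfl b hb
      convert smul_tau_bijective hf 1 V hV
      refine sectN_ext fun x => (hb x).trans ?_
      rw [tau_val]
      refine congrArg₂ Localization.mk (by simp) (Subtype.ext (by simp))
    exact key _ (one_mul _).symm _ fun x => rfl
  have hglocus : ∀ (f : A) (hf : f ∈ 𝒜 N), glocus (Twist.twist 𝒜 (N : ℤ))
      (show Γ(Twist.twist 𝒜 (N : ℤ), ⊤) from Twist.globalOf 𝒜 ⟨f, hf⟩) = Proj.basicOpen 𝒜 f := fun f hf => by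
    refine le_antisymm (fun x hx => ?_) ((le_glocus_iff _ _).2 (hgl f hf))
    obtain ⟨g, hg, hgx⟩ := hcov x
    have hgen := hgl g hg
    have hmem := (glocus_inf _ hgen).le ⟨hx, hgx⟩
    have hP : f ∈ 𝒜 (1 • N) := by simpa using hf
    have hc' : hgen.coef le_rfl (resM (Twist.twist 𝒜 (N : ℤ)) le_top
          (show Γ(Twist.twist 𝒜 (N : ℤ), ⊤) from Twist.globalOf 𝒜 ⟨f, hf⟩)) =
        (Proj.awayToSection 𝒜 g).hom (HomogeneousLocalization.Away.mk 𝒜 hg 1 f hP) := by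
      refine hgen.coef_eq _ (sectN_ext fun y => ?_)
      refine (Twist.coe_smul_val _ y.1 _ _).trans ?_
      refine (congrArg (· * _) (val_awayToSection_mk hg 1 f hP y)).trans ?_
      exact (Localization.mk_mul _ _ _ _).trans (Localization.mk_eq_mk_iff.2 (Localization.r_iff_exists.2
        ⟨1, by simp only [Submonoid.coe_mul, Submonoid.coe_one]; ring⟩))
    rw [hc', basicOpen_away hg 1 f hP, Proj.basicOpen_mul] at hmem
    exact hmem.2
  have hinv : PicF.IsInvertible (Twist.twist 𝒜 (N : ℤ)) := by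
    simpa using isInvertible_twist_mul hcov 1
  refine isAmple_iff_affGlocus.2 ⟨hinv, hc, fun x => ?_⟩
  obtain ⟨g, hg, hgx⟩ := hcov x
  obtain ⟨e⟩ := nonempty_twist_pow hcov 1
  let e' : Twist.twist 𝒜 (N : ℤ) ≅ CohB1.tensorPow (Twist.twist 𝒜 (N : ℤ)) 1 :=
    eqToIso (by simp) ≪≫ e
  have hl := (glocus_map_iso e' _).trans (hglocus g hg)
  exact ⟨1, one_pos, _, hl.ge hgx, le_top, hl ▸ Proj.isAffineOpen_basicOpen 𝒜 g hg hN⟩

end Sheaves

end Groth.Agent.ProjAmple14
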