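import Groth.Agent.ProjAmple14.Basic

/-!
# Serre vanishing and generation by twists on `Proj`
-/

set_option autoImplicit false
set_option linter.unusedSectionVars false
set_option linter.style.haveILetI false
set_option backward.isDefEq.respectTransparency.types false

universe u

open CategoryTheory CategoryTheory.Limits AlgebraicGeometry TopologicalSpace Opposite
open Groth.Agent.ProjLib Groth.Agent.Coherent Groth.Agent.PicLib Groth.Agent.AmpleLib Groth.Agent.TwistLib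

namespace Groth.Agent.ProjAmple14

variable {R A : Type u} [CommRing R] [CommRing A] [Algebra R A] {𝒜 : ℕ → Submodule R A} [GradedAlgebra 𝒜]

/-- Associativity of the tensor product of modules. -/
noncomputable def assocT {X : Scheme.{u}} (F G H : X.Modules) :
    CohB1.tensorMod (CohB1.tensorMod F G) H ≅ CohB1.tensorMod F (CohB1.tensorMod G H) :=
  DCat.TensorAssoc.assocIso F G H

section Proper

variable (𝒜) [IsNoetherianRing A]

theorem finiteType_zero : Algebra.FiniteType (𝒜 0) A := (isNoetherianRing_iff_degZero 𝒜).1 ‹_› |>.2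

theorem isProper_toSpecZero : IsProper (Proj.toSpecZero 𝒜) := by
  have := finiteType_zero 𝒜
  infer_instance

theorem isLocallyNoetherian_proj : IsLocallyNoetherian (Proj 𝒜) := by
  have := isProper_toSpecZero 𝒜
  haveI : IsNoetherianRing (𝒜 0) := ((isNoetherianRing_iff_degZero 𝒜).1 ‹_›).1
  exact LocallyOfFiniteType.isLocallyNoetherian (Proj.toSpecZero 𝒜)

theorem compactSpace_proj : CompactSpace (Proj 𝒜) := by
  have := isProper_toSpecZero 𝒜
  exact QuasiCompact.compactSpace_of_compactSpace (Proj.toSpecZero 𝒜)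

/-- Serre vanishing on `Proj`. -/
theorem exists_subsingleton_HH_twistBy (F : (Proj 𝒜).Modules) (hF : Coh.IsCoh F) (p : ℕ) (hp : 0 < p) :
    ∃ d₀ : ℤ, ∀ d : ℤ, d₀ ≤ d → Subsingleton (Coh.HH (Proj 𝒜) (Twist.twistBy 𝒜 F d) p) := by
  obtain ⟨N, hN, hcov⟩ := exists_deg_cover (𝒜 := 𝒜)
  have := isLocallyNoetherian_proj 𝒜
  have := compactSpace_proj 𝒜
  have := hF.1
  letI : (Proj 𝒜).Over (Spec (CommRingCat.of (𝒜 0))) := ⟨Proj.toSpecZero 𝒜⟩
  haveI : IsNoetherianRing (𝒜 0) := ((isNoetherianRing_iff_degZero 𝒜).1 ‹_›).1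
  haveI : IsProper ((Proj 𝒜) ↘ Spec (CommRingCat.of (𝒜 0))) := isProper_toSpecZero 𝒜
  have hL := isAmple_twist_deg hcov hN ‹_›
  have hG : ∀ r : ℕ, Coh.IsCoh (CohB1.tensorMod F (Twist.twist 𝒜 (r : ℤ))) := fun r => by
    have hr := isCoh_twist_nat hcov hN r
    have := hr.1
    exact ⟨isQCoh_tensorMod F _, isFT_tensorMod F _ hF.2 hr.2⟩
  choose n₀ hn₀ using fun r : ℕ => Serre.exists_vanishesFrom_of_ample (𝒜 0) hL _ (hG r)
  refine ⟨(((Finset.range N).sup n₀ + 1) * N : ℕ), fun d hd => ?_⟩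
  obtain ⟨d', rfl⟩ : ∃ d' : ℕ, d = d' := ⟨d.toNat, (Int.toNat_of_nonneg (le_trans (by positivity) hd)).symm⟩
  have hd' : ((Finset.range N).sup n₀ + 1) * N ≤ d' := by exact_mod_cast hd
  have hq : n₀ (d' % N) ≤ d' / N := by
    refine (Finset.le_sup (Finset.mem_range.2 (Nat.mod_lt _ hN))).trans ?_
    exact (Nat.le_succ _).trans ((Nat.le_div_iff_mul_le hN).2 hd')
  have hsum : ((d' % N : ℕ) : ℤ) + ((d' / N : ℕ) : ℤ) * N = (d' : ℤ) := by
    exact_mod_cast by rw [mul_comm (d' / N)]; exact Nat.mod_add_div d' N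
  obtain ⟨e₁⟩ := nonempty_tensor_twist hcov hsum (m := ((d' / N : ℕ) : ℤ)) rfl
  obtain ⟨e₂⟩ := nonempty_twist_pow hcov (d' / N)
  have E : Twist.twistBy 𝒜 F (d' : ℤ) ≅ CohB1.tensorMod (CohB1.tensorMod F (Twist.twist 𝒜 ((d' % N : ℕ) : ℤ)))
      (CohB1.tensorPow (Twist.twist 𝒜 (N : ℤ)) (d' / N)) :=
    AmpleLib.tensorIso (Iso.refl F) e₁.symm ≪≫ (assocT F (Twist.twist 𝒜 ((d' % N : ℕ) : ℤ)) (Twist.twist 𝒜 (((d' / N : ℕ) : ℤ) * N))).symm ≪≫
      AmpleLib.tensorIso (Iso.refl _) e₂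
  have h := (Serre.subsingleton_H'_top_iff _ p).1 (subsingleton_H'_of_iso E.symm p ⊤ (hn₀ _ _ hq p hp))
  exact h

/-- Every coherent module on `Proj` is a quotient of a finite sum of twists. -/
theorem exists_epi_twists (F : (Proj 𝒜).Modules) (hF : Coh.IsCoh F) :
    ∃ (r : ℕ) (d : Fin r → ℤ) (φ : (∐ fun j : Fin r => Twist.twist 𝒜 (d j)) ⟶ F), Epi φ := by
  classical
  obtain ⟨N, hN, hcov⟩ := exists_deg_cover (𝒜 := 𝒜)
  have := compactSpace_proj 𝒜
  have := hF.1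
  have hL := isAmple_twist_deg hcov hN ‹_›
  obtain ⟨n₁, hn₁⟩ := Serre.exists_epi_free_twist hL F hF
  obtain ⟨I, _, π, hπ⟩ := hn₁ n₁ le_rfl
  let P := Twist.twist 𝒜 (-(n₁ : ℤ) * N)
  have hP : PicF.IsInvertible P := isInvertible_twist_mul hcov _
  obtain ⟨e₁⟩ := nonempty_tensor_twist hcov
    (show (n₁ : ℤ) * N + -(n₁ : ℤ) * N = 0 by ring) (m := -(n₁ : ℤ)) rfl
  obtain ⟨e₂⟩ := nonempty_twist_pow hcov n₁
  obtain ⟨e₀⟩ := nonempty_twist_zero_iso (𝒜 := 𝒜)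
  let E : CohB1.tensorMod (CohB1.tensorMod F (CohB1.tensorPow (Twist.twist 𝒜 (N : ℤ)) n₁)) P ≅ F :=
    assocT F (CohB1.tensorPow (Twist.twist 𝒜 (N : ℤ)) n₁) P ≪≫ AmpleLib.tensorIso (Iso.refl F)
      (AmpleLib.tensorIso e₂.symm (Iso.refl P) ≪≫ e₁ ≪≫ e₀) ≪≫ tensorComm _ _ ≪≫ unitTensorIso F
  have := EulerLib.epi_tensorMap hP π
  let ψ : CohB1.tensorMod (freeMod (Proj 𝒜) I) P ⟶ F := tensorMap π (𝟙 P) ≫ E.hom
  have hψ : Epi ψ := epi_comp _ _
  let σ : I → (P ⟶ CohB1.tensorMod (freeMod (Proj 𝒜) I) P) := fun i =>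
    (unitTensorIso P).inv ≫ tensorMap (freeInj i) (𝟙 P)
  refine ⟨Fintype.card I, fun _ => -(n₁ : ℤ) * N,
    Sigma.desc fun j => σ ((Fintype.equivFin I).symm j) ≫ ψ, ⟨fun a b h => (cancel_epi ψ).1 ?_⟩⟩
  have hi : ∀ i : I, tensorMap (freeInj i) (𝟙 P) ≫ ψ ≫ a = tensorMap (freeInj i) (𝟙 P) ≫ ψ ≫ b := fun i => by
    have h' := Sigma.ι (fun _ : Fin (Fintype.card I) => P) (Fintype.equivFin I i) ≫= h
    erw [Sigma.ι_desc_assoc, Sigma.ι_desc_assoc] at h'
    simp only [σ, Category.assoc, Equiv.symm_apply_apply] at h'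
    exact (cancel_epi _).1 h'
  rw [← Category.id_comp (ψ ≫ a), ← Category.id_comp (ψ ≫ b),
    ← Serre.sum_tensorMap_free (I := I) P]
  simp only [tensorMap_comp_id, Preadditive.sum_comp, Category.assoc, hi]

end Proper

end Groth.Agent.ProjAmple14
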